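import Groth.Agent.Lib.CohMop.DualTensor
import Groth.Agent.Lib.RefHull26.Stalk
import Groth.Agent.Lib.RefHull26.Hom

/-!
# The sheaf of homomorphisms of sections agrees with the internal Hom
-/

set_option autoImplicit false
set_option linter.style.haveILetI false
set_option linter.unusedSectionVars false
set_option backward.isDefEq.respectTransparency false
set_option backward.isDefEq.respectTransparency.types false

universe u

open CategoryTheory CategoryTheory.Limits AlgebraicGeometry Opposite TopologicalSpace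

noncomputable section

namespace Groth.Agent.LMEuler8

open Groth.Agent.CohMop Groth.Agent.ModFlat16

variable {X : Scheme.{u}} (F G : X.Modules)

/-- A section of the sheaf Hom applied to a section. -/
def appSec {U : X.Opens} (θ : Γ(RefHull.homSh F G, U)) (s : Γ(F, U)) : Γ(G, U) :=
  (RH26.exists_app le_rfl θ s).choose

theorem germ_appSec {U : X.Opens} (θ : Γ(RefHull.homSh F G, U)) (s : Γ(F, U)) (y : X) (hy : y ∈ U) :
    G.presheaf.germ U y hy (appSec F G θ s) = θ.1 ⟨y, hy⟩ (F.presheaf.germ U y hy s) :=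
  (RH26.exists_app le_rfl θ s).choose_spec.1 y hy

/-- Evaluation. -/
def evalBi : M2.BiMap (RefHull.homSh F G) F G where
  f _ θ s := appSec F G θ s
  add_left U θ θ' s := RH26.section_ext' G fun y hy => by
    rw [germ_appSec, map_add, germ_appSec, germ_appSec]; rfl
  smul_left U r θ s := RH26.section_ext' G fun y hy => by
    rw [germ_appSec, M1.germ_smul, germ_appSec]; rfl
  add_right U θ s s' := RH26.section_ext' G fun y hy => by
    rw [germ_appSec, map_add, map_add, map_add, germ_appSec, germ_appSec]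
  smul_right U r θ s := RH26.section_ext' G fun y hy => by
    rw [germ_appSec, M1.germ_smul, map_smul, M1.germ_smul, germ_appSec]
  compat {U V} h θ s := RH26.section_ext' G fun y hy => by
    rw [germ_appSec, M1.germ_mres F h hy s]
    refine Eq.trans ?_ (M1.germ_mres G h hy _).symm
    rw [germ_appSec]
    rfl

/-- The comparison map. -/
def toIhom : RefHull.homSh F G ⟶ (ihom F).obj G :=
  (ihomAdj F).homEquiv _ _ (M2.mkHom (evalBi F G))

variable {F}

theorem modCmp_stFun {A B : X.Modules} (f : A ⟶ B) (y : X) (z : A.presheaf.stalk y) :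
    modCmp y B ((M1.stalkAb y).map f z) = (stFun y).map f (modCmp y A z) := by
  obtain ⟨U, hU, s, rfl⟩ := TopCat.Presheaf.exists_germ_eq A.presheaf z
  rw [modCmp_germ]
  refine Eq.trans (congrArg (modCmp y _) ?_) ((modCmp_germ y _ hU _).trans
    (ModFlat16.stalkMap_germ (O := X.sheaf) f y (nb y hU) s).symm)
  exact TopCat.Presheaf.stalkFunctor_map_germ_apply U y hU ((Scheme.Modules.toPresheaf X).map f) s

theorem ev_toIhom [ModSite.HasSheafHom (O := X.sheaf) F] (y : X)
    (a : (RefHull.homSh F G).presheaf.stalk y) (b : F.presheaf.stalk y) :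
    SH.evLin (O := X.sheaf) (M := F) (N := G) (x := y) (modCmp y _ ((M1.stalkAb y).map (toIhom F G) a))
      (modCmp y F b) = modCmp y G (RefHull.evalStalk F G y a b) := by
  obtain ⟨U₁, h₁, θ, rfl⟩ := TopCat.Presheaf.exists_germ_eq (RefHull.homSh F G).presheaf a
  obtain ⟨U₂, h₂, s, rfl⟩ := TopCat.Presheaf.exists_germ_eq F.presheaf b
  have hy : y ∈ U₁ ⊓ U₂ := ⟨h₁, h₂⟩
  rw [← M1.germ_mres (RefHull.homSh F G) (inf_le_left : U₁ ⊓ U₂ ≤ U₁) hy θ,
    ← M1.germ_mres F (inf_le_right : U₁ ⊓ U₂ ≤ U₂) hy s]
  generalize M1.mres (RefHull.homSh F G) (inf_le_left : U₁ ⊓ U₂ ≤ U₁) θ = θ'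
  generalize M1.mres F (inf_le_right : U₁ ⊓ U₂ ≤ U₂) s = s'
  rw [RefHull.evalStalk_germ, ← germ_appSec, modCmp_germ, modCmp_germ]
  refine (congrArg (fun z => SH.evLin (O := X.sheaf) (M := F) (N := G) (x := y) z _)
    ((modCmp_stFun (toIhom F G) y _).trans ((congrArg ((stFun y).map (toIhom F G)) (modCmp_germ y _ hy θ')).trans
      (ModFlat16.stalkMap_germ (O := X.sheaf) (toIhom F G) y (nb y hy) θ')))).trans ?_
  refine (SH.ev_germ (O := X.sheaf) hy _ s').trans (congrArg _ ?_)
  refine (FinPres16.hval_homEquiv (O := X.sheaf) (M2.mkHom (evalBi F G)) θ' s').trans ?_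
  exact M2.mkHom_tsec (evalBi F G) θ' s'

variable (F)

theorem isIso_toIhom (hF : CohB1.IsFP F) : IsIso (toIhom F G) := by
  haveI : ModSite.HasSheafHom (O := X.sheaf) F := isLeftAdjoint_tenR _
  haveI := hF
  haveI : SheafOfModules.IsFinitePresentation (R := ModSite.ringSh X.sheaf) F := hF
  refine (M1.isIso_iff_stalk _).2 fun y => ⟨(injective_iff_map_eq_zero _).2 fun a ha => ?_, fun w => ?_⟩
  · refine (RH26.evalStalk_bijective hF G y).1 ((LinearMap.ext fun b => ?_ : _ = (0 : RefHull.StalkHom F G y)).trans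
      (map_zero _).symm)
    apply (modCmp y G).injective
    rw [← ev_toIhom, ha, map_zero, map_zero]
    exact (map_zero (modCmp y G)).symm
  · let φ : RefHull.StalkHom F G y :=
      { toFun := fun b => (modCmp y G).symm
          (SH.evLin (O := X.sheaf) (M := F) (N := G) (x := y) (modCmp y _ w) (modCmp y F b))
        map_add' := fun b b' => by rw [map_add, map_add, map_add]
        map_smul' := fun r b => by
          rw [modCmp_smul, map_smul, modCmp_symm_smul, RingHom.id_apply, RingEquiv.symm_apply_apply] }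
    obtain ⟨a, ha⟩ := (RH26.evalStalk_bijective hF G y).2 φ
    refine ⟨a, (modCmp y _).injective (SH.evLin_injective (O := X.sheaf) (M := F) (N := G) ?_)⟩
    refine LinearMap.ext fun b => ?_
    obtain ⟨b, rfl⟩ := (modCmp y F).surjective b
    exact ((ev_toIhom G y a b).trans (congrArg (fun f => modCmp y G (f b)) ha)).trans ((modCmp y G).apply_symm_apply _)

/-- The two sheaves of homomorphisms out of a finite locally free module agree. -/
theorem nonempty_homSh_iso {E : X.Modules} (hE : FlatMod.IsFinLocFree E) (N : X.Modules) :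
    Nonempty (RefHull.homSh E N ≅ CohB1.tensorMod N (CohMop.dual E)) := by
  haveI : ModSite.HasSheafHom (O := X.sheaf) E := isLeftAdjoint_tenR _
  haveI := isIso_toIhom E N (M1.isFP_of_isFinLocFree hE)
  haveI := CohMop.isIso_dualMap N hE
  exact ⟨asIso (toIhom E N) ≪≫ (asIso (CohMop.dualMap N E)).symm⟩

end Groth.Agent.LMEuler8

end
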