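import Groth.Agent.Lib.CurveCoh17.Degree
import Groth.Agent.Lib.Kunneth22.Shift

/-!
# Cohomology of free modules
-/

set_option autoImplicit false
set_option linter.style.haveILetI false
set_option backward.isDefEq.respectTransparency false
set_option backward.isDefEq.respectTransparency.types false
set_option maxHeartbeats 1000000

universe u

open CategoryTheory CategoryTheory.Limits AlgebraicGeometry TopologicalSpace Opposite

noncomputable section

namespace Groth.Agent.LMEuler8

theorem hmap_sum {k : Type u} [Field k] {X : Scheme.{u}} [X.Over (Spec (CommRingCat.of k))] {ι : Type*} (s : Finset ι)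
    {M N : X.Modules} (φ : ι → (M ⟶ N)) (n : ℕ) (x : Coh.HH X M n) :
    CurveCoh17.hmap k (∑ i ∈ s, φ i) n x = ∑ i ∈ s, CurveCoh17.hmap k (φ i) n x := by
  classical
  induction s using Finset.induction_on with
  | empty => simp [CurveCoh17.hmap_zero]
  | insert a s ha ih =>
    rw [Finset.sum_insert ha, Finset.sum_insert ha, Kunneth22.hmap_add'', LinearMap.add_apply, ih]

/-- A free module. -/
theorem finrank_HH_freeMod (k : Type u) [Field k] {X : Scheme.{u}} [X.Over (Spec (CommRingCat.of k))] (r n : ℕ)
    [Module.Finite k (Coh.HH X (Coh.structureModule X) n)] :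
    Module.finrank k (Coh.HH X (FlatMod.freeMod X r) n) = r * Module.finrank k (Coh.HH X (Coh.structureModule X) n) := by
  haveI : HasFiniteBiproducts X.Modules := HasFiniteBiproducts.of_hasFiniteProducts
  let G : Fin r → X.Modules := fun _ => Coh.structureModule X
  let e : (⨁ G) ≅ FlatMod.freeMod X r := biproduct.isoCoproduct G
  let a : Coh.HH X (⨁ G) n ≃ₗ[k] (Fin r → Coh.HH X (Coh.structureModule X) n) :=
    { toFun := fun x i => CurveCoh17.hmap k (biproduct.π G i) n x
      map_add' := fun x y => funext fun i => map_add _ x y
      map_smul' := fun c x => funext fun i => map_smul _ c x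
      invFun := fun y => ∑ i, CurveCoh17.hmap k (biproduct.ι G i) n (y i)
      left_inv := fun x => by
        show ∑ i, CurveCoh17.hmap k (biproduct.ι G i) n (CurveCoh17.hmap k (biproduct.π G i) n x) = x
        conv_rhs => rw [← CurveCoh17.hmap_id k (⨁ G) n x, ← biproduct.total, hmap_sum]
        exact Finset.sum_congr rfl fun i _ => (CurveCoh17.hmap_comp k _ _ n x).symm
      right_inv := fun y => funext fun j => by
        show CurveCoh17.hmap k (biproduct.π G j) n (∑ i, CurveCoh17.hmap k (biproduct.ι G i) n (y i)) = y j
        rw [map_sum, Finset.sum_eq_single j]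
        · rw [← CurveCoh17.hmap_comp, biproduct.ι_π_self, CurveCoh17.hmap_id]
        · intro i _ hij
          rw [← CurveCoh17.hmap_comp, biproduct.ι_π_ne G hij, CurveCoh17.hmap_zero]
        · simp }
  rw [← (CurveCoh17.hequiv k e n).finrank_eq, a.finrank_eq, Module.finrank_pi_fintype, Finset.sum_const,
    Finset.card_univ, Fintype.card_fin, smul_eq_mul]

end Groth.Agent.LMEuler8

end
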