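import Groth.Agent.Lib.LMEuler8.HomSheaf
import Groth.Agent.Lib.SerreDual8.RR
import Groth.Agent.S15848
import Groth.Agent.Lib.Hurwitz17.DualDeg
import Groth.Agent.Lib.CohFound.ClosedImmPush
import Groth.Agent.Lib.MumVan22.ChiTwist
import Groth.Agent.Lib.EnriquesSeveri11.Proper
import Groth.Agent.Lib.CurveCoh17.TensorExact
import Groth.Agent.Lib.VB17.Proper
import Groth.Agent.Lib.FGA3.FormalTriv
import Groth.Agent.Lib.SurfRR10.Proj

/-!
# Euler characteristics of endomorphisms of Lazarsfeld-Mukai bundles
-/

set_option autoImplicit false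
set_option linter.style.haveILetI false
set_option linter.unusedSectionVars false
set_option backward.isDefEq.respectTransparency false
set_option backward.isDefEq.respectTransparency.types false
set_option maxHeartbeats 1600000

universe u

open CategoryTheory CategoryTheory.Limits AlgebraicGeometry TopologicalSpace MonoidalCategory
open scoped Groth.Agent.DMon9

noncomputable section

namespace Groth.Agent.LMEuler8

variable {X : Scheme.{u}}

/-- `ℋom(E ⊗ F, O)` is `F^∨` twisted by the inverse of an invertible `E`. -/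
theorem nonempty_dual_tensor_invertible {E E' : X.Modules} (hE : PicF.IsInvertible E)
    (e : CohB1.tensorMod E' E ≅ Coh.structureModule X) (F : X.Modules) :
    Nonempty (CohMop.dual (CohB1.tensorMod E F) ≅ CohB1.tensorMod (CohMop.dual F) E') := by
  let θ : CohMop.ihom (CohB1.tensorMod E F) ≅ CohMop.ihom F ⋙ CohMop.ihom E :=
    (CohMop.ihomAdj (CohB1.tensorMod E F)).rightAdjointUniq
      (((CohMop.ihomAdj E).comp (CohMop.ihomAdj F)).ofNatIsoLeft (MonoidalCategory.tensorRightTensor E F).symm)
  obtain ⟨j⟩ := ProjDual12.nonempty_ihom_invertible_iso hE e (CohMop.dual F)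
  exact ⟨θ.app _ ≪≫ j⟩

/-- The dual of a bundle has the same rank. -/
theorem isFinLocFreeOfRank_dual [IsIntegral X] [IsLocallyNoetherian X] {r : ℕ} {A : X.Modules}
    (hA : FlatMod.IsFinLocFreeOfRank r A) : FlatMod.IsFinLocFreeOfRank r (CohMop.dual A) := by
  obtain ⟨e⟩ := nonempty_homSh_iso (M2.isFinLocFree_of_ofRank hA) (Coh.structureModule X)
  exact M2.isFinLocFreeOfRank_of_iso (e ≪≫ M2.tensorLUnit _) (Hurwitz17.isFinLocFreeOfRank_dual hA)

section Surface

variable {k : Type u} [Field k] [IsAlgClosed k] [CharZero k] [X.Over (Spec (CommRingCat.of k))] [IsIntegral X]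
  [Smooth (X ↘ Spec (CommRingCat.of k))] (hdim : topologicalKrullDim X = 2)
  [IsProper (X ↘ Spec (CommRingCat.of k))]
  {C : Scheme.{u}} (i : C ⟶ X) [IsClosedImmersion i] [IsIntegral C]
  (hC : topologicalKrullDim C = 1)
include k hdim hC

omit k in
theorem genericPoint_notMem : genericPoint X ∉ Set.range i := fun h => by
  have hu : Set.range i = Set.univ := by
    refine Set.univ_subset_iff.1 ?_
    rw [← genericPoint_closure (α := X)]
    exact closure_minimal (Set.singleton_subset_iff.2 h) i.isClosedEmbedding.isClosed_range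
  have he : IsHomeomorph i := isHomeomorph_iff_isEmbedding_surjective.2 ⟨i.isEmbedding, Set.range_eq_univ.1 hu⟩
  have h2 := IsHomeomorph.topologicalKrullDim_eq i he
  rw [hC, hdim] at h2
  exact absurd h2 (by decide)

/-- The kernel of a surjection onto a bundle on the curve. -/
theorem isFinLocFreeOfRank_kernel {r : ℕ} {F : X.Modules} (hF : FlatMod.IsFinLocFreeOfRank r F)
    {n : ℕ} {M : C.Modules} (hM : FlatMod.IsFinLocFreeOfRank n M)
    (f : F ⟶ (Coh.push i).obj M) [Epi f] : FlatMod.IsFinLocFreeOfRank r (kernel f) := by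
  haveI : IsNoetherian X := CohFound.isNoetherian_of_isProper (X ↘ Spec (CommRingCat.of k))
  haveI : IsLocallyNoetherian C := LocallyOfFiniteType.isLocallyNoetherian i
  have htf : TorSh.IsTorsionFree M := fun c => by
    obtain ⟨e⟩ := CurveCoh17.nonempty_stalk_equiv hM c
    haveI := Module.Free.of_equiv e.symm
    show Module.IsTorsionFree (C.presheaf.stalk c) (M.presheaf.stalk c)
    infer_instance
  have hK := S15848.result k X hdim C i hC M (CurveCoh17.isCoh_of_ofRank hM) htf F
    (M2.isFinLocFree_of_ofRank hF) f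
  obtain ⟨s, hs⟩ := VB17.exists_rank_of_isFinLocFree hK
  suffices s = r by subst this; exact hs
  obtain ⟨a⟩ := CurveCoh17.nonempty_stalk_equiv hs (genericPoint X)
  obtain ⟨b⟩ := CurveCoh17.nonempty_stalk_equiv hF (genericPoint X)
  let u := Cyc26.stalkLin (kernel.ι f) (genericPoint X)
  have hu : Function.Bijective u := by
    refine ⟨(M1.mono_iff_stalk (kernel.ι f)).1 inferInstance _, fun z => ?_⟩
    exact (M1.exact_iff_stalk_eq_zero (ShortComplex.mk (kernel.ι f) f (kernel.condition f))).1
      (ShortComplex.exact_kernel f) _ z (M1.eq_zero_stalk_push i M (genericPoint_notMem hdim i hC) _)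
  have h := LinearEquiv.finrank_eq (a.symm ≪≫ₗ LinearEquiv.ofBijective u hu ≪≫ₗ b)
  simpa using h

variable [C.Over (Spec (CommRingCat.of k))] [Smooth (C ↘ Spec (CommRingCat.of k))]
  (hi : i ≫ (X ↘ Spec (CommRingCat.of k)) = C ↘ Spec (CommRingCat.of k))
include hi

/-- The Euler characteristic of endomorphisms of the kernel of `O^e → i_* A`. -/
theorem euler_endSheaf (hK : ExtPow.IsExtPow 2 (Omega.sheaf (X ↘ Spec (CommRingCat.of k))) (Coh.structureModule X))
    {A : C.Modules} (hA : PicF.IsInvertible A) (e : ℕ) (lam : FlatMod.freeMod X e ⟶ (Coh.push i).obj A) [Epi lam] :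
    Curv2.euler k X (RefHull.homSh (kernel lam) (kernel lam)) =
      e * (e * Curv2.euler k X (Coh.structureModule X) - Curv2.euler k C A) -
        e * Curv2.euler k C A + 2 * Curv2.euler k C (Coh.structureModule C) := by
  haveI : IsNoetherian X := CohFound.isNoetherian_of_isProper (X ↘ Spec (CommRingCat.of k))
  haveI : IsProper (C ↘ Spec (CommRingCat.of k)) := by rw [← hi]; infer_instance
  haveI : IsNoetherian C := CohFound.isNoetherian_of_isProper (C ↘ Spec (CommRingCat.of k))
  haveI : SmoothOfRelativeDimension 2 (X ↘ Spec (CommRingCat.of k)) := SurfRR10.smoothRelDim (k := k) hdim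
  have hd : topologicalKrullDim X ≤ ((2 : ℕ) : WithBot ℕ∞) := by rw [hdim]; rfl
  -- the two kernels
  let F := kernel lam
  have hF : FlatMod.IsFinLocFreeOfRank e F := isFinLocFreeOfRank_kernel (k := k) hdim i hC
    (M2.isFinLocFreeOfRank_freeMod X e) ((M2.isInvertible_iff_isFinLocFreeOfRank_one _).1 hA) lam
  have hFf := M2.isFinLocFree_of_ofRank hF
  let q : Coh.structureModule X ⟶ (Coh.push i).obj (Coh.structureModule C) := ClSub.unitToPush i
  haveI : Epi q := FGA3.epi_unitToPush i
  let I := kernel q
  have hI : PicF.IsInvertible I := (M2.isInvertible_iff_isFinLocFreeOfRank_one _).2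
    (isFinLocFreeOfRank_kernel (k := k) hdim i hC
      ((M2.isInvertible_iff_isFinLocFreeOfRank_one _).1 (PicLoc.isInvertible_structureModule X))
      ((M2.isInvertible_iff_isFinLocFreeOfRank_one _).1 (PicLoc.isInvertible_structureModule C)) q)
  obtain ⟨I', hI', ⟨eI⟩⟩ := M2.exists_inverse hI
  let eI' : CohB1.tensorMod I' I ≅ Coh.structureModule X := M2.tensorComm _ _ ≪≫ eI
  have hS : (ShortComplex.mk (kernel.ι lam) lam (kernel.condition lam)).ShortExact :=
    { exact := ShortComplex.exact_kernel lam }
  have hT : (ShortComplex.mk (kernel.ι q) q (kernel.condition q)).ShortExact :=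
    { exact := ShortComplex.exact_kernel q }
  -- restriction to the curve
  have res : ∀ (N : C.Modules), Coh.IsCoh N → ∀ (E : X.Modules), FlatMod.IsFinLocFree E →
      Curv2.euler k X (CohB1.tensorMod ((Coh.push i).obj N) E) =
        Curv2.euler k C (CohB1.tensorMod N ((Scheme.Modules.pullback i).obj E)) := fun N hN E hE => by
    obtain ⟨p⟩ := CohFound.nonempty_push_tensor_iso i N hN.1 E (M2.isQCoh_of_isFinLocFree hE)
    rw [← CurveCoh17.euler_iso p]
    exact AmpleFin18.euler_push i hi _ (M2.isQCoh_tensor hN.1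
      (M2.isQCoh_of_isFinLocFree (M2.isFinLocFree_pullback i hE)))
  have coh : ∀ {E : X.Modules}, FlatMod.IsFinLocFree E → Coh.IsCoh E := fun {E} hE =>
    ⟨M1.isFP_isQCoh (M1.isFP_of_isFinLocFree hE), M1.isFP_isFT (M1.isFP_of_isFinLocFree hE)⟩
  have hAc : Coh.IsCoh A := Snapper.isCoh_of_isInvertible hA
  have hCc : Coh.IsCoh (Coh.structureModule C) := M1.isCoh_structureModule C
  -- the two sequences, tensored with a bundle
  have seqS : ∀ {E : X.Modules}, FlatMod.IsFinLocFree E → (e : ℤ) * Curv2.euler k X E =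
      Curv2.euler k X (CohB1.tensorMod F E) + Curv2.euler k C (CohB1.tensorMod A ((Scheme.Modules.pullback i).obj E)) :=
    fun {E} hE => by
    have h := ChiTwist22.euler_add_coh (k := k) (CurveCoh17.shortExact_tensorR hS E
      (ChiTwist22.flat_stalk_of_locFree hE)) (CurveCoh17.isCoh_tensor (coh hFf) (coh hE))
      (CurveCoh17.isCoh_tensor (ChiTwist22.isCoh_freeMod e) (coh hE))
      (CurveCoh17.isCoh_tensor (CohFound.isCoh_push_closedImm i hAc) (coh hE))
    change Curv2.euler k X (CohB1.tensorMod (FlatMod.freeMod X e) E) = Curv2.euler k X (CohB1.tensorMod F E) +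
      Curv2.euler k X (CohB1.tensorMod ((Coh.push i).obj A) E) at h
    rw [ChiTwist22.euler_tensor_free (coh hE), res A hAc E hE] at h
    exact h
  have seqT : ∀ {E : X.Modules}, FlatMod.IsFinLocFree E → Curv2.euler k X E =
      Curv2.euler k X (CohB1.tensorMod I E) + Curv2.euler k C ((Scheme.Modules.pullback i).obj E) :=
    fun {E} hE => by
    have h := ChiTwist22.euler_add_coh (k := k) (CurveCoh17.shortExact_tensorR hT E
      (ChiTwist22.flat_stalk_of_locFree hE)) (CurveCoh17.isCoh_tensor (Snapper.isCoh_of_isInvertible hI) (coh hE))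
      (CurveCoh17.isCoh_tensor (M1.isCoh_structureModule X) (coh hE))
      (CurveCoh17.isCoh_tensor (CohFound.isCoh_push_closedImm i hCc) (coh hE))
    change Curv2.euler k X (CohB1.tensorMod (Coh.structureModule X) E) = Curv2.euler k X (CohB1.tensorMod I E) +
      Curv2.euler k X (CohB1.tensorMod ((Coh.push i).obj (Coh.structureModule C)) E) at h
    rw [CurveCoh17.euler_iso (M2.tensorLUnit E), res _ hCc E hE, CurveCoh17.euler_iso (M2.tensorLUnit _)] at h
    exact h
  -- Serre duality
  have dual : ∀ {E : X.Modules}, FlatMod.IsFinLocFree E → Curv2.euler k X (CohMop.dual E) = Curv2.euler k X E := by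
    intro E hE
    have hv : ∀ {M : X.Modules}, Coh.IsCoh M → Curv2.euler k X M = (Module.finrank k (Coh.HH X M 0) : ℤ) -
        Module.finrank k (Coh.HH X M 1) + Module.finrank k (Coh.HH X M 2) := fun {M} hM => by
      rw [Curv2.euler, finsum_eq_finsetSum_of_support_subset (s := Finset.range 3)]
      · simp [Finset.sum_range_succ]; ring
      · intro j hj
        simp only [Finset.coe_range, Set.mem_Iio]
        by_contra hlt
        haveI : Subsingleton (Coh.HH X M j) :=
          NumPoly18.subsingleton_HH_of_support (k := k) hM (NumPoly18.dim_support_le hd M) (show 2 < j by omega)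
        exact hj (by simp [Module.finrank_zero_of_subsingleton])
    rw [hv (coh (CohMop.isFinLocFree_dual hE)), hv (coh hE),
      SerreDual8.finrank_duality_locFree 2 hK hE (p := 0) (by omega),
      SerreDual8.finrank_duality_locFree 2 hK hE (p := 1) (by omega),
      SerreDual8.finrank_duality_locFree 2 hK hE (p := 2) le_rfl]
    show _ = ((Module.finrank k (Coh.HH X (CohMop.dual E) 2) : ℤ) - Module.finrank k (Coh.HH X (CohMop.dual E) 1) +
      Module.finrank k (Coh.HH X (CohMop.dual E) 0))
    ring
  let D := CohMop.dual F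
  have hD : FlatMod.IsFinLocFreeOfRank e D := isFinLocFreeOfRank_dual hF
  have hDf := M2.isFinLocFree_of_ofRank hD
  have hIf := M2.isFinLocFree_of_isInvertible hI
  have hIf' := M2.isFinLocFree_of_isInvertible hI'
  have hOf := M2.isFinLocFree_of_isInvertible (PicLoc.isInvertible_structureModule X)
  -- values
  have h0 := seqS hOf
  rw [CurveCoh17.euler_iso (M2.tensorRUnit F),
    CurveCoh17.euler_iso (M2.tensorIso (Iso.refl A) (Twist.pullbackUnitIso i) ≪≫ M2.tensorRUnit A)] at h0
  have h1 := seqT hIf'
  rw [CurveCoh17.euler_iso eI] at h1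
  have h2 := seqT hOf
  rw [CurveCoh17.euler_iso (M2.tensorRUnit I), CurveCoh17.euler_iso (Twist.pullbackUnitIso i)] at h2
  have hII : Curv2.euler k X I = Curv2.euler k X I' := by
    obtain ⟨j⟩ := ProjDual12.nonempty_ihom_invertible_iso hI eI' (Coh.structureModule X)
    rw [← dual hIf, CurveCoh17.euler_iso (j ≪≫ M2.tensorLUnit I')]
  obtain ⟨eDI⟩ := nonempty_dual_tensor_invertible hI' eI (F := F)
  have hIF := dual (M2.isFinLocFree_tensor hIf' hFf)
  rw [CurveCoh17.euler_iso (eDI ≪≫ M2.tensorComm D I)] at hIF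
  have h3 := seqS hIf'
  rw [CurveCoh17.euler_iso (M2.tensorComm F I')] at h3
  have h4 := seqT hDf
  have hX : CurveCoh17.CurveLike k C := ⟨inferInstance, VB17.isSeparated_of_over (k := k), hC.le,
    fun M hM n => CohFound.finite_HH_of_isProper _ hM n⟩
  have hA1 := (M2.isInvertible_iff_isFinLocFreeOfRank_one _).1 hA
  have h5 := hX.euler_tensor hA1
    ((M2.isInvertible_iff_isFinLocFreeOfRank_one _).1 (PicLoc.isInvertible_pullback i hI'))
  have h6 := hX.euler_tensor hA1 (M2.isFinLocFreeOfRank_pullback i hD)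
  have h7 := seqS hDf
  obtain ⟨eE⟩ := nonempty_homSh_iso hFf F
  have h8 := dual hFf
  rw [CurveCoh17.euler_iso eE]
  push_cast at h5 h6
  linear_combination -h7 - h6 + (e : ℤ) * h8 - (e : ℤ) * h0 + h4 - h8 + hIF + h0 - h3 - h5 + h1 + (1 - (e : ℤ)) * (hII + h2)

end Surface

end Groth.Agent.LMEuler8

end
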